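import Cfsg.Agent.Fusion.Yoshida.Wreath
import Cfsg.Agent.Fusion.Transfer.Focal
import Cfsg.Agent.Fusion.Tate
import Cfsg.Agent.Fusion.Puig

/-!
Yoshida's theorem for saturated fusion systems.
-/

set_option autoImplicit false
set_option linter.style.haveILetI false

namespace Cfsg.Lib.Fusion.Yoshida

open Cfsg Cfsg.FusionSystem Cfsg.Lib.Fusion Cfsg.Lib.Fusion.Transfer
open scoped commutatorElement

universe u

variable {Ω : Type u} [Group Ω] {S : Subgroup Ω} {F : FusionSystem S} {p : ℕ}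

theorem exists_functional {X : Type u} [Group X] [Finite X] [hp : Fact p.Prime] (hX : IsPGroup p X)
    (K : Subgroup X) (hc : commutator X ≤ K) (hpow : ∀ x : X, x ^ p ∈ K) {x0 : X} (hx0 : x0 ∉ K) :
    ∃ μ : X →* Multiplicative (ZMod p), (∀ x ∈ K, μ x = 1) ∧ μ x0 ≠ 1 := by
  obtain ⟨M, ⟨hKM, hxM⟩, hmax⟩ := (Set.toFinite {M : Subgroup X | K ≤ M ∧ x0 ∉ M}).exists_maximal
    ⟨K, le_rfl, hx0⟩
  haveI : M.Normal := Subgroup.Normal.of_commutator_le (G := X) (hc.trans hKM)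
  have hcoatom : IsCoatom M := by
    refine ⟨fun e => hxM (e ▸ Subgroup.mem_top _), fun L hL => eq_top_iff.2 fun y _ => ?_⟩
    have hx0L : x0 ∈ L := by
      by_contra h
      exact hL.not_ge (hmax ⟨hKM.trans hL.le, h⟩ hL.le)
    by_contra hy
    have hyM : y ∉ M := fun h => hy (hL.le h)
    have hx0y : x0 ∈ M ⊔ Subgroup.zpowers y := by
      by_contra h
      exact hyM (hmax ⟨hKM.trans le_sup_left, h⟩ le_sup_left (Subgroup.mem_sup_right (Subgroup.mem_zpowers y)))
    obtain ⟨m, hm, z, ⟨c, rfl⟩, he⟩ := Subgroup.mem_sup_of_normal_left.1 hx0y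
    have hyc : y ^ c ∈ L := by
      have h2 := L.mul_mem (L.inv_mem (hL.le hm)) hx0L
      rwa [← he, inv_mul_cancel_left] at h2
    have hyp : y ^ p ∈ L := hL.le (hKM (hpow y))
    by_cases hd : (p : ℤ) ∣ c
    · refine hxM (he ▸ M.mul_mem hm ?_)
      obtain ⟨e, rfl⟩ := hd
      show y ^ ((p : ℤ) * e) ∈ M
      rw [zpow_mul, zpow_natCast]
      exact M.zpow_mem (hKM (hpow y)) e
    · obtain ⟨a, b, hab⟩ := ((Nat.prime_iff_prime_int.mp hp.out).coprime_iff_not_dvd.mpr hd)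
      refine hy ?_
      rw [← zpow_one y, ← hab, zpow_add, mul_comm a, zpow_mul, zpow_natCast, mul_comm b, zpow_mul]
      exact L.mul_mem (L.zpow_mem hyp a) (L.zpow_mem hyc b)
  obtain ⟨-, hidx⟩ := Cfsg.Lib.PGroups.coatom_normal_index hX hcoatom
  let e : X ⧸ M ≃* Multiplicative (ZMod p) :=
    mulEquivOfPrimeCardEq ((Subgroup.index_eq_card M).symm.trans hidx) (Nat.card_zmod p)
  refine ⟨e.toMonoidHom.comp (QuotientGroup.mk' M), fun x hx => ?_, fun h => hxM ?_⟩
  · show e (x : X ⧸ M) = 1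
    rw [(QuotientGroup.eq_one_iff x).2 (hKM hx), map_one]
  · exact (QuotientGroup.eq_one_iff x0).1 (e.injective (h.trans (map_one e).symm))

theorem map_foc_conj {s x : Ω} (hs : s ∈ S) (hx : x ∈ F.focalSubgroup) :
    s * x * s⁻¹ ∈ F.focalSubgroup := by
  have hxS := focalSubgroup_le F hx
  have h := F.focalSubgroup.mul_mem hx (mem_focalSubgroup (F := F) (isMap_conj le_rfl hs) hxS)
  rwa [mul_inv_cancel_left] at h

/-- The subsystem with the same maps on `S` has the same focal subgroup, or there is a wreath quotient. -/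
theorem main [Finite S] [hp : Fact p.Prime] (hS : IsPGroup p S) (hF : F.IsSaturated p) {T : Subgroup Ω}
    (hT : T = S) (H : FusionSystem T) (hH : H.IsSaturated p) (hHF : H.IsSubsystemOf F)
    (htop : ∀ g, IsMap F S g → img S g = S → IsMap H S g) (hne : H.focalSubgroup ≠ F.focalSubgroup) :
    ∃ f : S →* RegularWreathProduct (Multiplicative (ZMod p)) (Multiplicative (ZMod p)),
      Function.Surjective f := by
  classical
  subst hT
  -- a homomorphism separating the focal subgroups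
  set K := ((frattini T).map T.subtype ⊔ H.focalSubgroup).subgroupOf T
  obtain ⟨x0, hx0F, hx0⟩ : ∃ x0 : T, (x0 : Ω) ∈ F.focalSubgroup ∧ x0 ∉ K := by
    by_contra hno
    push Not at hno
    refine hne (((tate hS hF hH hHF).1.1 (le_antisymm (sup_le le_sup_left fun y hy =>
      hno ⟨y, focalSubgroup_le F hy⟩ hy) (sup_le le_sup_left ?_))).symm)
    refine le_trans ?_ le_sup_right
    exact focalSubgroup_le_iff.mpr fun P f hf x hx =>
      mem_focalSubgroup (le_iff_isMap.1 (show H ≤ F from hHF) P f hf) hx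
  obtain ⟨μ, hμK, hμ0⟩ := exists_functional (p := p) hS K
    (fun x hx => Subgroup.mem_sup_left ⟨x, Cfsg.Lib.PGroups.commutator_le_frattini hS hx, rfl⟩)
    (fun x => Subgroup.mem_sup_left ⟨x ^ p, Cfsg.Lib.PGroups.pow_mem_frattini hS x, rfl⟩) hx0
  -- minimal order
  have hex : ∃ m, ∃ x : T, (x : Ω) ∈ F.focalSubgroup ∧ μ x ≠ 1 ∧ orderOf x = m := ⟨_, x0, hx0F, hμ0, rfl⟩
  obtain ⟨x, hxF, hx1, hxo⟩ := Nat.find_spec hex
  have hmin : ∀ y : T, (y : Ω) ∈ F.focalSubgroup → orderOf y < orderOf x → μ y = 1 := fun y hy hlt => by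
    by_contra h
    exact Nat.find_min hex (hxo ▸ hlt) ⟨y, hy, h, rfl⟩
  have hfix : Fixed F (⊥ : Subgroup Ω) μ := by
    refine ⟨bot_le, fun P f hf => ⟨f, by rwa [sup_bot_eq], fun _ _ => rfl, ?_, fun z hz h h' => ?_⟩⟩
    · refine le_bot_iff.1 ((Subgroup.closure_le _).2 ?_)
      rintro _ ⟨z, hz, rfl⟩
      rw [Subgroup.mem_bot.1 hz, hf.map_one]
      exact Subgroup.one_mem _
    · refine congrArg μ (Subtype.ext ?_)
      show f z = z
      rw [Subgroup.mem_bot.1 hz, hf.map_one]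
  obtain ⟨L, ⟨hL, hN⟩, hst⟩ := exists_stable hS hF μ hfix
  let τ : T →* Multiplicative (ZMod p) :=
    MonoidHom.mk' (fun y => (L.map fun C => MonoidHom.transfer C.ν y).prod) fun a b => by
      simp [List.prod_map_mul]
  have hτ : τ x = 1 := by
    obtain ⟨s, hs, e⟩ := focalSubgroup_le_ker (τ := τ) (transfer_stable hfix hL hst) hxF
    rw [← Subtype.ext e]
    exact hs
  have hxp : orderOf (μ x) = p := orderOf_eq_prime (Multiplicative.toAdd.injective (by simp)) hx1
  obtain ⟨C, hC, hCne⟩ : ∃ C ∈ L, MonoidHom.transfer C.ν x ≠ μ x ^ C.R.index := by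
    by_contra hno
    push Not at hno
    have e : τ x = μ x ^ (L.map fun C => C.R.index).sum := by
      show (L.map fun C => MonoidHom.transfer C.ν x).prod = _
      rw [List.map_congr_left hno]
      clear hL hN hst hno τ hτ
      induction L with
      | nil => simp
      | cons C L ih => simp [ih, pow_add]
    have h1 := orderOf_dvd_of_pow_eq_one (e.symm.trans hτ)
    rw [hxp] at h1
    exact hN h1
  obtain ⟨g, hg, hgν⟩ := (hL C hC).2
  have hval : ∀ (y : C.R) (hyg : g ((y : T) : Ω) ∈ T), ((y : T) : Ω) ∈ F.focalSubgroup →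
      g ((y : T) : Ω) ∈ F.focalSubgroup := fun y _ hy => by
    have := F.focalSubgroup.mul_mem hy (mem_focalSubgroup hg (x := ((y : T) : Ω)) ⟨_, y.2, rfl⟩)
    rwa [mul_inv_cancel_left] at this
  have hR : C.R ≠ ⊤ := by
    intro hR
    refine hCne (map_transfer_eq_pow (MonoidHom.id _) μ x fun ℓ u hu => ?_)
    have hgT : IsMap F T g := hg.mono fun t ht => ⟨⟨t, ht⟩, hR ▸ Subgroup.mem_top _, rfl⟩
    have himg : img T g = T := by
      haveI := hgT
      exact Subgroup.eq_of_le_of_card_ge hgT.img_le hgT.card_img.ge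
    set y : T := u⁻¹ * x ^ ℓ * u
    show C.ν ⟨y, hu⟩ = μ y
    rw [hgν ⟨y, hu⟩ (hgT.mem_S y.2)]
    have hmem := mem_focalSubgroup (htop g hgT himg) y.2
    have h1 : μ (y⁻¹ * ⟨g y, hgT.mem_S y.2⟩) = 1 := hμK _ (Subgroup.mem_sup_right hmem)
    rwa [map_mul, map_inv, inv_mul_eq_one, eq_comm] at h1
  refine exists_surjective hS hR C.ν x (fun h1 => hCne ?_) fun k u hu hpk => ?_
  · obtain ⟨j, hj⟩ := hS.index C.R
    have hj0 : j ≠ 0 := fun h0 => hR (Subgroup.index_eq_one.1 (by rw [hj, h0, pow_zero]))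
    rw [h1, hj, ← Nat.sub_add_cancel (Nat.one_le_iff_ne_zero.2 hj0), pow_succ', pow_mul,
      show μ x ^ p = 1 from orderOf_dvd_iff_pow_eq_one.1 hxp.dvd, one_pow]
  set y : T := u⁻¹ * x ^ k * u
  have hyS : g (y : Ω) ∈ T := hg.mem_S ⟨_, hu, rfl⟩
  rw [hgν ⟨y, hu⟩ hyS]
  have hyF : (y : Ω) ∈ F.focalSubgroup := by
    have h := map_foc_conj (F := F) (T.inv_mem u.2) (F.focalSubgroup.pow_mem hxF k)
    rw [inv_inv] at h
    simpa [y] using h
  refine hmin _ (hval ⟨y, hu⟩ hyS hyF) ?_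
  refine lt_of_le_of_lt ?_ (show orderOf x / p < orderOf x from Nat.div_lt_self (orderOf_pos x) hp.out.one_lt)
  have hox : p ∣ orderOf x := hxp ▸ orderOf_map_dvd μ x
  refine Nat.le_of_dvd (Nat.div_pos (Nat.le_of_dvd (orderOf_pos x) hox) hp.out.pos)
    (orderOf_dvd_of_pow_eq_one (Subtype.ext ?_))
  obtain ⟨k', rfl⟩ := hpk
  have hy1 : y ^ (orderOf x / p) = 1 := by
    have e : y = u⁻¹ * x ^ (p * k') * (u⁻¹)⁻¹ := by rw [inv_inv]
    rw [e, conj_pow, ← pow_mul, show p * k' * (orderOf x / p) = k' * (orderOf x) by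
      rw [mul_comm p k', mul_assoc, Nat.mul_div_cancel' hox], mul_comm k', pow_mul, pow_orderOf_eq_one,
      one_pow, mul_one, mul_inv_cancel]
  show g (y : Ω) ^ (orderOf x / p) = 1
  rw [← hg.map_pow (x := (y : Ω)) ⟨y, hu, rfl⟩, ← Subgroup.coe_pow, hy1,
    Subgroup.coe_one, hg.map_one]

end Cfsg.Lib.Fusion.Yoshida
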