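import Mathlib
import Cfsg.Agent.PGroups.Basic

/-!
A nonzero transfer at a suitable element gives the wreath product `C_p ≀ C_p` as a quotient.
-/

set_option autoImplicit false
set_option linter.style.haveILetI false

namespace Cfsg.Lib.Fusion.Yoshida

open scoped Pointwise

universe u

variable {X : Type u} [Group X]

theorem transfer_eq_prod_section {H : Subgroup X} [H.FiniteIndex] {A : Type*} [CommGroup A]
    (ν : H →* A) (f : X ⧸ H → X) (hf : ∀ q, (f q : X ⧸ H) = q) [Fintype (X ⧸ H)] (g : X)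
    (hmem : ∀ q : X ⧸ H, (f q)⁻¹ * (g * f (g⁻¹ • q)) ∈ H) :
    MonoidHom.transfer ν g = ∏ q : X ⧸ H, ν ⟨(f q)⁻¹ * (g * f (g⁻¹ • q)), hmem q⟩ := by
  rw [MonoidHom.transfer_def ν ⟨Set.range f, Subgroup.isComplement_range_left hf⟩ g,
    Subgroup.leftTransversals.diff]
  refine Finset.prod_congr (Finset.ext fun _ => by simp) fun q _ => congrArg ν (Subtype.ext ?_)
  simp only [Subgroup.smul_apply_eq_smul_apply_inv_smul, Subgroup.IsComplement.leftQuotientEquiv_apply hf,
    smul_eq_mul]

variable {p : ℕ} [hp : Fact p.Prime]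

local notation "D" => Multiplicative (ZMod p)

open MonoidAlgebra in
/-- A subgroup of the wreath product containing a base element of nonzero sum and mapping onto the top. -/
theorem wreath_eq_top (H : Subgroup (RegularWreathProduct D D))
    (hright : ∀ σ : D, ∃ h ∈ H, h.right = σ) (v : D → D) (hv : (⟨v, 1⟩ : RegularWreathProduct D D) ∈ H)
    (hsum : ∏ i, v i ≠ 1) : H = ⊤ := by
  classical
  let bv : MonoidAlgebra (ZMod p) D → RegularWreathProduct D D :=
    fun a => ⟨fun i => Multiplicative.ofAdd (a.coeff i), 1⟩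
  have hadd : ∀ a b, bv (a + b) = bv a * bv b := fun a b => by
    refine RegularWreathProduct.ext ?_ (one_mul 1).symm
    funext i
    simp [bv]
  have hzero : bv 0 = 1 := by
    refine RegularWreathProduct.ext ?_ rfl
    funext i
    simp [bv]
  have hnsmul : ∀ (k : ℕ) a, bv a ∈ H → bv (k • a) ∈ H := fun k a ha => by
    induction k with
    | zero => rw [zero_nsmul, hzero]; exact H.one_mem
    | succ k ih => rw [succ_nsmul, hadd]; exact H.mul_mem ih ha
  have hshift : ∀ (σ : D) a, bv a ∈ H → bv (single σ 1 * a) ∈ H := by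
    intro σ a ha
    obtain ⟨h, hh, hσ⟩ := hright σ
    have e : bv (single σ 1 * a) = h * bv a * h⁻¹ := by
      refine RegularWreathProduct.ext ?_ (by simp [bv])
      funext i
      have hc : (single σ 1 * a).coeff i = 1 * a.coeff (σ⁻¹ * i) :=
        coeff_single_mul_eq_mul_coeff _ fun m _ => eq_inv_mul_iff_mul_eq.symm
      simp only [bv, hc, one_mul, RegularWreathProduct.mul_left, RegularWreathProduct.mul_right,
        RegularWreathProduct.inv_left, Pi.mul_apply, Pi.inv_apply, hσ, mul_one, mul_inv_cancel_left]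
      rw [mul_comm (h.left i), mul_inv_cancel_right]
    rw [e]
    exact H.mul_mem (H.mul_mem hh ha) (H.inv_mem hh)
  have hideal : ∀ b a, bv a ∈ H → bv (b * a) ∈ H := by
    intro b a ha
    induction b using MonoidAlgebra.induction_on with
    | of m => exact hshift m a ha
    | add x y hx hy => rw [add_mul, hadd]; exact H.mul_mem hx hy
    | smul r x hx =>
      rw [smul_mul_assoc, ← ZMod.natCast_zmod_val r, Nat.cast_smul_eq_nsmul]
      exact hnsmul _ _ hx
  -- the element attached to `v`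
  let a : MonoidAlgebra (ZMod p) D := ∑ i, single i (Multiplicative.toAdd (v i))
  have hac : ∀ i, a.coeff i = Multiplicative.toAdd (v i) := fun i => by
    simp [a, coeff_single, Finsupp.single_apply]
  have ha : bv a ∈ H := by
    convert hv using 1
    refine RegularWreathProduct.ext ?_ rfl
    funext i
    simp [bv, hac]
  set ε : ZMod p := ∑ i, Multiplicative.toAdd (v i) with hε
  have hε0 : ε ≠ 0 := by
    intro h0
    refine hsum (Multiplicative.toAdd.injective ?_)
    rw [toAdd_prod]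
    exact h0
  haveI : CharP (MonoidAlgebra (ZMod p) D) p :=
    charP_of_injective_ringHom (f := MonoidAlgebra.singleOneRingHom)
      (fun x y h => by
        have := congrArg (fun z : MonoidAlgebra (ZMod p) D => z.coeff 1) h
        simpa [coeff_single] using this) p
  have hap : a ^ p = single 1 ε := by
    rw [sum_pow_char p]
    have hone : ∀ i : D, i ^ p = 1 := fun i => by
      apply Multiplicative.toAdd.injective
      simp
    simp only [single_pow, hone, ZMod.pow_card]
    rw [hε]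
    refine MonoidAlgebra.ext (Finsupp.ext fun j => ?_)
    by_cases hj : j = 1 <;> simp [coeff_single, Finsupp.single_apply, hj, eq_comm]
  have hall : ∀ b, bv b ∈ H := fun b => by
    have h := hideal (b * single 1 ε⁻¹ * a ^ (p - 1)) a ha
    rwa [mul_assoc, ← pow_succ, Nat.sub_add_cancel hp.out.one_le, hap, mul_assoc, single_mul_single,
      one_mul, inv_mul_cancel₀ hε0, ← one_def, mul_one] at h
  refine eq_top_iff.2 fun w _ => ?_
  obtain ⟨h, hh, hσ⟩ := hright w.right
  have e : w * h⁻¹ = bv (MonoidAlgebra.ofCoeff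
      (Finsupp.equivFunOnFinite.symm fun i => Multiplicative.toAdd ((w * h⁻¹).left i))) := by
    refine RegularWreathProduct.ext ?_ (by simp [bv, hσ])
    funext i
    simp [bv]
  rw [← inv_mul_cancel_right w h, e]
  exact H.mul_mem (hall _) hh

theorem exists_iso_sylow (W : Sylow p (Equiv.Perm (Fin (p ^ 2)))) :
    Nonempty (RegularWreathProduct D D ≃* ↥(W : Subgroup (Equiv.Perm (Fin (p ^ 2))))) := by
  have e1 := Sylow.mulEquivIteratedWreathProduct p 2 (Fin (p ^ 2)) (Nat.card_fin _) D
    (Nat.card_zmod p) W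
  have hinj : Function.Injective (RegularWreathProduct.rightHom : RegularWreathProduct PUnit.{1} D →* D) :=
    fun a b h => RegularWreathProduct.ext (Subsingleton.elim _ _) h
  have e0 : RegularWreathProduct PUnit.{1} D ≃* D :=
    MulEquiv.ofBijective _ ⟨hinj, fun q => ⟨RegularWreathProduct.inl q, rfl⟩⟩
  exact ⟨((RegularWreathProduct.congr e0 (MulEquiv.refl D)).symm.trans e1.symm)⟩

variable [Finite X]

/-- Nonzero transfer from a proper subgroup at an element whose nontrivial powers die. -/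
theorem exists_surjective (hX : IsPGroup p X) {R : Subgroup X} (hR : R ≠ ⊤) (ν : R →* D) (x : X)
    (hnz : MonoidHom.transfer ν x ≠ 1)
    (hkill : ∀ (k : ℕ) (u : X) (h : u⁻¹ * x ^ k * u ∈ R), p ∣ k → ν ⟨_, h⟩ = 1) :
    ∃ f : X →* RegularWreathProduct D D, Function.Surjective f := by
  classical
  obtain ⟨M, hM, hRM⟩ := (eq_top_or_exists_le_coatom R).resolve_left hR
  obtain ⟨hMn, hMidx⟩ := Cfsg.Lib.PGroups.coatom_normal_index hX hM
  haveI := hMn
  have hMi : Nat.card (X ⧸ M) = p := by rw [← Subgroup.index_eq_card]; exact hMidx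
  haveI : Fintype (X ⧸ R) := Fintype.ofFinite _
  haveI : Fintype (X ⧸ M) := Fintype.ofFinite _
  haveI : Fintype (M ⧸ R.subgroupOf M) := Fintype.ofFinite _
  -- the element lies in `M`
  have hxM : x ∈ M := by
    haveI : Fintype (Quotient (MulAction.orbitRel (Subgroup.zpowers x) (X ⧸ R))) := Fintype.ofFinite _
    rw [MonoidHom.transfer_eq_prod_quotient_orbitRel_zpowers_quot] at hnz
    obtain ⟨q, -, hq⟩ := Finset.exists_ne_one_of_prod_ne_one hnz
    set m := Function.minimalPeriod (x • ·) q.out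
    have hpm : ¬ p ∣ m := fun h => hq (hkill m _ _ h)
    have hmem := QuotientGroup.out_conj_pow_minimalPeriod_mem R x q.out
    have hxm : x ^ m ∈ M := by
      have h2 := hMn.conj_mem _ (hRM hmem) q.out.out
      convert h2 using 1
      simp only [m]
      group
    rw [← QuotientGroup.eq_one_iff] at hxm ⊢
    rw [QuotientGroup.mk_pow] at hxm
    have hd : orderOf (x : X ⧸ M) ∣ p := hMi ▸ orderOf_dvd_natCard _
    exact orderOf_eq_one_iff.1 (Nat.eq_one_of_dvd_coprimes
      ((hp.out.coprime_iff_not_dvd).2 hpm) hd (orderOf_dvd_of_pow_eq_one hxm))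
  -- the transfer into `M`
  set R' := R.subgroupOf M
  let ν' : R' →* D := ν.comp (Subgroup.subgroupOfEquivOfLe hRM).toMonoidHom
  set τ := MonoidHom.transfer ν'
  have hmem : ∀ (g : X) (i : X ⧸ M), i.out⁻¹ * (g * (g⁻¹ • i).out) ∈ M := fun g i => by
    refine QuotientGroup.eq.1 ?_
    rw [QuotientGroup.out_eq', ← smul_eq_mul, ← MulAction.Quotient.smul_coe, QuotientGroup.out_eq',
      smul_inv_smul]
  obtain ⟨e⟩ : Nonempty (X ⧸ M ≃* D) := ⟨mulEquivOfPrimeCardEq hMi (Nat.card_zmod p)⟩
  have hmk : ∀ (g : X) (d : D), e.symm ((e (g : X ⧸ M))⁻¹ * d) = g⁻¹ • e.symm d := fun g d => by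
    rw [map_mul, map_inv, e.symm_apply_apply]
    obtain ⟨y, hy⟩ := QuotientGroup.mk_surjective (e.symm d)
    rw [← hy, MulAction.Quotient.smul_coe, smul_eq_mul, QuotientGroup.mk_mul, QuotientGroup.mk_inv]
  let Φ : X →* RegularWreathProduct D D := MonoidHom.mk'
    (fun g => ⟨fun d => τ ⟨_, hmem g (e.symm d)⟩, e (g : X ⧸ M)⟩) fun g k => by
    refine RegularWreathProduct.ext ?_ (by simp)
    funext d
    simp only [RegularWreathProduct.mul_left, Pi.mul_apply]
    rw [← map_mul]
    refine congrArg τ (Subtype.ext ?_)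
    show _ = (e.symm d).out⁻¹ * (g * (g⁻¹ • e.symm d).out) *
      ((e.symm ((e (g : X ⧸ M))⁻¹ * d)).out⁻¹ * (k * (k⁻¹ • e.symm ((e (g : X ⧸ M))⁻¹ * d)).out))
    simp only [hmk, mul_inv_rev, mul_smul]
    group
  refine ⟨Φ, MonoidHom.range_eq_top.1 (wreath_eq_top Φ.range (fun σ => ?_) (Φ x).left ?_ ?_)⟩
  · obtain ⟨y, hy⟩ := QuotientGroup.mk_surjective (e.symm σ)
    exact ⟨Φ y, ⟨y, rfl⟩, by show e (y : X ⧸ M) = σ; rw [hy, e.apply_symm_apply]⟩
  · refine ⟨x, RegularWreathProduct.ext rfl ?_⟩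
    show e (x : X ⧸ M) = 1
    rw [(QuotientGroup.eq_one_iff x).2 hxM, map_one]
  -- transitivity of the transfer
  intro h1
  refine hnz ?_
  let eq := Subgroup.quotientEquivProdOfLE hRM
  let f : X ⧸ R → X := fun q => (eq q).1.out * ((eq q).2.out : X)
  have hsymm : ∀ (i : X ⧸ M) (b : M), eq.symm (i, (b : M ⧸ R')) = ((i.out * b : X) : X ⧸ R) :=
    fun i b => rfl
  have hf : ∀ q, (f q : X ⧸ R) = q := fun q => by
    obtain ⟨⟨i, j⟩, rfl⟩ := eq.symm.surjective q
    simp only [f, Equiv.apply_symm_apply]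
    rw [← hsymm, QuotientGroup.out_eq']
  have hfmem : ∀ q, (f q)⁻¹ * (x * f (x⁻¹ • q)) ∈ R := fun q => QuotientGroup.eq.1 (by
    rw [hf, ← smul_eq_mul, ← MulAction.Quotient.smul_coe, hf, smul_inv_smul])
  rw [transfer_eq_prod_section ν f hf x hfmem, ← eq.symm.prod_comp, Fintype.prod_prod_type, ← h1]
  refine Fintype.prod_equiv e.toEquiv _ _ fun i => ?_
  have hxi : x⁻¹ • i = i := by
    obtain ⟨y, rfl⟩ := QuotientGroup.mk_surjective i
    rw [MulAction.Quotient.smul_coe, smul_eq_mul, QuotientGroup.mk_mul, QuotientGroup.mk_inv,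
      (QuotientGroup.eq_one_iff x).2 hxM, inv_one, one_mul]
  set w : M := ⟨_, hmem x i⟩ with hw
  have hwv : (w : X) = i.out⁻¹ * (x * i.out) := by rw [hw]; simp only [hxi]
  show _ = τ ⟨_, hmem x (e.symm (e i))⟩
  simp only [e.symm_apply_apply]
  rw [← hw]
  have hm' : ∀ j : M ⧸ R', j.out⁻¹ * (w * (w⁻¹ • j).out) ∈ R' := fun j => QuotientGroup.eq.1 (by
    rw [QuotientGroup.out_eq', ← smul_eq_mul, ← MulAction.Quotient.smul_coe, QuotientGroup.out_eq',
      smul_inv_smul])
  rw [show τ w = ∏ j : M ⧸ R', ν' ⟨_, hm' j⟩ from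
    transfer_eq_prod_section ν' Quotient.out QuotientGroup.out_eq' w hm']
  refine Finset.prod_congr rfl fun j _ => congrArg ν (Subtype.ext ?_)
  have hstep : x⁻¹ • eq.symm (i, j) = eq.symm (i, w⁻¹ • j) := by
    obtain ⟨b, rfl⟩ := QuotientGroup.mk_surjective j
    rw [MulAction.Quotient.smul_coe, hsymm, hsymm, MulAction.Quotient.smul_coe, smul_eq_mul, smul_eq_mul,
      Subgroup.coe_mul, Subgroup.coe_inv, hwv]
    congr 1
    group
  show (f (eq.symm (i, j)))⁻¹ * (x * f (x⁻¹ • eq.symm (i, j))) =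
    ((j.out : M) : X)⁻¹ * ((w : X) * ((w⁻¹ • j).out : M))
  rw [hstep]
  simp only [f, Equiv.apply_symm_apply, hwv]
  group
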